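import Groth.Agent.Lib.DefH13.Coc
import Groth.Agent.Lib.CohFound.CechElt
import Groth.Agent.Lib.HilbObs3.Obs
import Groth.Prelude.Def_CohB1

/-!
# First Čech cohomology of a finite affine cover is first cohomology

No condition on the intersections.
-/

set_option autoImplicit false
set_option linter.style.haveILetI false
set_option backward.isDefEq.respectTransparency false
set_option backward.isDefEq.respectTransparency.types false

universe u

open CategoryTheory CategoryTheory.Limits AlgebraicGeometry TopologicalSpace Opposite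

namespace Groth.Agent.CechOne3

open CohFound CubeField

theorem isClass_zero {Y : TopCat.{u}} (F : CohTop.Ab Y) {ι : Type} (V : ι → Opens Y) :
    IsClass F V (fun _ _ => 0) 0 :=
  ⟨fun _ => 0, 0, fun i j => by simp, fun i => by simp, by simp⟩

theorem nonempty_cechH_one_addEquiv {X : Scheme.{u}} (M : X.Modules) (hM : Coh.IsQCoh M) {n : ℕ}
    (U : ULift.{u} (Fin n) → X.Opens) (hU : ∀ i, IsAffineOpen (U i)) (hcov : ⨆ i, U i = ⊤) :
    Nonempty (↑(CohB1.cechH U M 1) ≃+ Hc ((abF X).obj M) 1 (⊤ : X.Opens)) := by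
  let V : Fin n → X.affineOpens := fun i => ⟨U ⟨i⟩, hU ⟨i⟩⟩
  let F := (abF X).obj M
  let P := F.obj
  let K := cechCx U P
  have hV : ⨆ i, (V i).1 = ⊤ := by
    refine le_antisymm le_top (hcov.ge.trans (iSup_le fun i => ?_))
    obtain ⟨i⟩ := i
    exact le_iSup (fun i => (V i).1) i
  let pr : Fin n → Fin n → Fin 2 → ULift.{u} (Fin n) := fun i j => ![⟨i⟩, ⟨j⟩]
  have hpr : ∀ i j, (V i).1 ⊓ (V j).1 ≤ tupOpen U (pr i j) := fun i j => le_iInf fun l => by
    fin_cases l
    · exact inf_le_left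
    · exact inf_le_right
  let s : K.X 1 → ∀ i j, F.obj.obj (op ((V i).1 ⊓ (V j).1)) := fun x i j =>
    ab F (hpr i j) (cval U P (pr i j) x)
  have hsadd : ∀ x y, s (x + y) = fun i j => s x i j + s y i j := fun x y => by
    funext i j
    show ab F (hpr i j) (cvalHom U P (pr i j) (x + y)) = _
    rw [map_add, map_add]
    rfl
  have hcong : ∀ (x : K.X 1) (a b : Fin 2 → ULift.{u} (Fin n)) (_ : a = b) (W : X.Opens) (ha : W ≤ tupOpen U a)
      (hb : W ≤ tupOpen U b), ab F ha (cval U P a x) = ab F hb (cval U P b x) := by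
    rintro x a b rfl W ha hb; rfl
  have hcoc : ∀ x, K.d 1 2 x = 0 → IsCocycleAb F (fun i => (V i).1) (s x) := by
    intro x hx i j l W hi hj hl
    let a : Fin 3 → ULift.{u} (Fin n) := ![⟨i⟩, ⟨j⟩, ⟨l⟩]
    have hW : W ≤ tupOpen U a := le_iInf fun m => by
      fin_cases m
      · exact hi
      · exact hj
      · exact hl
    have h0 := cval_d U P x a
    rw [show (cechCx U P).d 1 (1 + 1) x = 0 from hx] at h0
    have h1 := congrArg (ab F hW) h0
    rw [show cval U P a (0 : (cechCx U P).X 2) = 0 from map_zero (cvalHom U P a).hom, Fin.sum_univ_three] at h1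
    change ab F hW 0 = ab F hW ((-1 : ℤ) ^ ((0 : Fin 3) : ℕ) • ab F (tupOpen_le U a 0) (cval U P _ x) +
      (-1 : ℤ) ^ ((1 : Fin 3) : ℕ) • ab F (tupOpen_le U a 1) (cval U P _ x) +
      (-1 : ℤ) ^ ((2 : Fin 3) : ℕ) • ab F (tupOpen_le U a 2) (cval U P _ x)) at h1
    simp only [map_zero, map_add, map_neg, ab_ab, Fin.val_zero, Fin.val_one, Fin.val_two, pow_zero, pow_one,
      neg_one_sq, one_smul, neg_smul] at h1
    have e0 : a ∘ (0 : Fin 3).succAbove = pr j l := by funext m; fin_cases m <;> rfl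
    have e1 : a ∘ (1 : Fin 3).succAbove = pr i l := by funext m; fin_cases m <;> rfl
    have e2 : a ∘ (2 : Fin 3).succAbove = pr i j := by funext m; fin_cases m <;> rfl
    rw [hcong x _ _ e0 W _ ((le_inf hj hl).trans (hpr j l)), hcong x _ _ e1 W _ ((le_inf hi hl).trans (hpr i l)),
      hcong x _ _ e2 W _ ((le_inf hi hj).trans (hpr i j))] at h1
    simp only [s, ab_ab]
    rw [← sub_eq_zero, h1]
    abel
  let S := K.sc' 0 1 2
  let Z := AddMonoidHom.ker S.g.hom
  choose c hc using fun x : Z => exists_isClass F (fun i => (V i).1) hV (s x.1) (hcoc x.1 x.2)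
  have hcadd : ∀ x y : Z, c (x + y) = c x + c y := fun x y => by
    refine HilbObs3.isClass_unique _ hV (hc _) ?_
    rw [show s (x + y : Z).1 = _ from hsadd x.1 y.1]
    exact HilbObs3.isClass_add (hc x) (hc y)
  let Φ : Z →+ Hc F 1 (⊤ : X.Opens) := AddMonoidHom.mk' c hcadd
  have hΦ : Function.Surjective Φ := fun d => by
    obtain ⟨t, ht, htc⟩ := DefH13.exists_coc_isClass M hM V d
    have hle : ∀ a : Fin 2 → ULift.{u} (Fin n), tupOpen U a ≤ (V (a 0).down).1 ⊓ (V (a 1).down).1 := fun a =>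
      le_inf (iInf_le _ 0) (iInf_le _ 1)
    obtain ⟨x, hx⟩ := exists_cval U P (fun a => ab F (hle a) (t (a 0).down (a 1).down))
    have hxk : K.d 1 2 x = 0 := by
      refine cval_ext U P fun a => ?_
      rw [show cval U P a (0 : (cechCx U P).X 2) = 0 from map_zero (cvalHom U P a).hom]
      refine (cval_d U P x a).trans ?_
      rw [Fin.sum_univ_three, hx, hx, hx]
      change (-1 : ℤ) ^ ((0 : Fin 3) : ℕ) • ab F _ (ab F _ (t _ _)) +
        (-1 : ℤ) ^ ((1 : Fin 3) : ℕ) • ab F _ (ab F _ (t _ _)) +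
        (-1 : ℤ) ^ ((2 : Fin 3) : ℕ) • ab F _ (ab F _ (t _ _)) = (0 : F.obj.obj (op (tupOpen U a)))
      simp only [ab_ab, Fin.val_zero, Fin.val_one, Fin.val_two, pow_zero, pow_one, neg_one_sq, one_smul, neg_smul]
      rw [← sub_eq_add_neg, sub_add_eq_add_sub, sub_eq_zero, add_comm]
      exact ht (a 0).down (a 1).down (a 2).down (tupOpen U a) (iInf_le _ 0) (iInf_le _ 1) (iInf_le _ 2)
    refine ⟨⟨x, hxk⟩, HilbObs3.isClass_unique _ hV (hc _) ?_⟩
    have e : s x = t := by
      funext i j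
      show ab F _ (cval U P (pr i j) x) = _
      rw [hx, ab_ab]
      exact ConcreteCategory.congr_hom (F.obj.map_id _) (t i j)
    exact e ▸ htc
  have hker : AddMonoidHom.range S.abToCycles = AddMonoidHom.ker Φ := by
    refine le_antisymm ?_ fun x hx => ?_
    · rintro _ ⟨y, rfl⟩
      refine Eq.trans ?_ (mp_id 1 ⊤ (F := F) (0 : Hc F 1 (⊤ : X.Opens)))
      refine (hc _).eq_mp F _ hV (isClass_zero F fun i => (V i).1) (𝟙 F)
        (fun i => - ab F (le_iInf fun m => by fin_cases m; exact le_rfl : (V i).1 ≤ tupOpen U (![⟨i⟩] : Fin 1 → _)) (cval U P ![⟨i⟩] y)) fun i j => ?_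
      show ab F _ (cval U P (pr i j) ((cechCx U P).d 0 (0 + 1) y)) = _
      rw [cval_d, Fin.sum_univ_two]
      change ab F _ ((-1 : ℤ) ^ ((0 : Fin 2) : ℕ) • ab F _ (cval U P _ y) +
        (-1 : ℤ) ^ ((1 : Fin 2) : ℕ) • ab F _ (cval U P _ y)) = _
      simp only [Fin.val_zero, Fin.val_one, pow_zero, pow_one, one_smul, neg_smul, map_add, map_neg, map_zero,
        ab_ab, zero_add]
      have hcong0 : ∀ (a b : Fin 1 → ULift.{u} (Fin n)) (_ : a = b) (W : X.Opens) (ha : W ≤ tupOpen U a)
          (hb : W ≤ tupOpen U b), ab F ha (cval U P a y) = ab F hb (cval U P b y) := by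
        rintro a b rfl W ha hb; rfl
      rw [hcong0 _ (![⟨j⟩]) (by funext m; fin_cases m; rfl) _ _ (inf_le_right.trans (le_iInf fun m => by fin_cases m; exact le_rfl)),
        hcong0 (pr i j ∘ (1 : Fin 2).succAbove) (![⟨i⟩]) (by funext m; fin_cases m; rfl) _ _
          (inf_le_left.trans (le_iInf fun m => by fin_cases m; exact le_rfl))]
      abel
    · have hz := hc x
      rw [show c x = 0 from hx] at hz
      obtain ⟨t, ht⟩ := hz.eq_boundary
      have hle : ∀ a : Fin 1 → ULift.{u} (Fin n), tupOpen U a ≤ (V (a 0).down).1 := fun a => iInf_le _ 0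
      obtain ⟨y, hy⟩ := exists_cval U P (fun a => - ab F (hle a) (t (a 0).down))
      refine ⟨y, Subtype.ext (cval_ext U P fun a => ?_)⟩
      suffices H : ∀ z : K.X 1, (∀ i j, ab F inf_le_left (t i) - ab F inf_le_right (t j) = s z i j) →
          cval U P a ((cechCx U P).d 0 (0 + 1) y) = cval U P a z from H x.1 ht
      intro z hz'
      refine (cval_d U P y a).trans ?_
      rw [Fin.sum_univ_two, hy, hy]
      change (-1 : ℤ) ^ ((0 : Fin 2) : ℕ) • ab F _ (- ab F _ (t _)) +
        (-1 : ℤ) ^ ((1 : Fin 2) : ℕ) • ab F _ (- ab F _ (t _)) = _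
      simp only [Fin.val_zero, Fin.val_one, pow_zero, pow_one, one_smul, neg_smul, map_neg, neg_neg, ab_ab]
      have e : a = pr (a 0).down (a 1).down := by funext m; fin_cases m <;> rfl
      have h1 := congrArg (ab F (le_inf (iInf_le _ 0) (iInf_le _ 1) : tupOpen U a ≤ _)) (hz' (a 0).down (a 1).down)
      simp only [s, map_sub] at h1
      rw [ab_ab F, ab_ab F, ab_ab F] at h1
      rw [hcong z _ a e.symm (tupOpen U a) _ le_rfl] at h1
      rw [show ab F (le_refl (tupOpen U a)) (cval U P a z) = cval U P a z from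
        ConcreteCategory.congr_hom (F.obj.map_id _) _] at h1
      refine Eq.trans ?_ h1
      rw [sub_eq_neg_add]
      rfl
  exact ⟨((HomologicalComplex.homologyIsoSc' K 0 1 2 (by simp) (by simp)) ≪≫ S.abHomologyIso).addCommGroupIsoToAddEquiv.trans
    ((QuotientAddGroup.quotientAddEquivOfEq hker).trans (QuotientAddGroup.quotientKerEquivOfSurjective Φ hΦ))⟩

end Groth.Agent.CechOne3
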